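import Cfsg.Agent.CosetEnum.Fi23H.Fix8

set_option autoImplicit false
set_option maxRecDepth 100000
set_option Elab.async false

/-! The coset action of `Cfsg.Spor.Fi23` on 31671 cosets. -/

namespace CfsgLib.CosetEnum.Fi23H

theorem full : B141 = 2 ^ (enum.n * CfsgLib.CosetEnum.Fi23.setup.k) - 1 := by decide +kernel

theorem fixes : CfsgLib.CosetEnum.Fi23.words.all (fun w => fixesAll 31671 tb w 15) = true := by
  simp only [CfsgLib.CosetEnum.Fi23.words, List.all_cons, List.all_nil, Bool.and_self, fix0, fix1, fix2, fix3, fix4, fix5, fix6, fix7, fix8, fix9, fix10, fix11, fix12, fix13, fix14, fix15, fix16, fix17, fix18, fix19, fix20, fix21, fix22, fix23, fix24, fix25, fix26, fix27, fix28, fix29, fix30, fix31, fix32, fix33, fix34, fix35, fix36, fix37, fix38, fix39, fix40, fix41, fix42, fix43, fix44, fix45, fix46, fix47, fix48, fix49, fix50, fix51, fix52, fix53, fix54, fix55, fix56]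

theorem fixesZero : sW.all (fun w => Nat.beq (walk tb w 0) 0) = true := by decide +kernel

noncomputable instance neZero : NeZero enum.n := ⟨by decide +kernel⟩

theorem action :
    ∃ (φ : CfsgLib.CosetEnum.Fi23.setup.Grp →* Equiv.Perm (Fin enum.n))
      (e : CfsgLib.CosetEnum.Fi23.setup.Grp ⧸ enum.H ≃ Fin enum.n),
      (∀ (w : List ℕ), (∀ x ∈ w, x < CfsgLib.CosetEnum.Fi23.setup.k) → ∀ i : Fin enum.n,
        ((φ (prodw CfsgLib.CosetEnum.Fi23.setup.g w))⁻¹ i).val = walk enum.tb w i) ∧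
      (∀ (y : CfsgLib.CosetEnum.Fi23.setup.Grp) (q : CfsgLib.CosetEnum.Fi23.setup.Grp ⧸ enum.H),
        e (y • q) = φ y (e q)) ∧
      e ((1 : CfsgLib.CosetEnum.Fi23.setup.Grp) : CfsgLib.CosetEnum.Fi23.setup.Grp ⧸ enum.H) = 0 :=
  enum.exists_action 15 B141 (by decide +kernel) (by decide +kernel) good141 full valid treeValid fixes fixesZero

end CfsgLib.CosetEnum.Fi23H
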