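import Cfsg.Agent.CosetEnum.Fi23H.Chain13

set_option autoImplicit false
set_option maxRecDepth 100000
set_option Elab.async false

/-! Checks of the coset table on 31671 cosets (generated certificate). -/

namespace CfsgLib.CosetEnum.Fi23H

theorem fix0_0 : allR (fun i => bif Nat.blt i 31671 then Nat.beq (walk tb [0, 0] i) i else true) 15 0 = true := by decide +kernel

theorem fix0 : fixesAll 31671 tb [0, 0] 15 = true :=
  fix0_0

theorem fix1_0 : allR (fun i => bif Nat.blt i 31671 then Nat.beq (walk tb [0, 1, 0, 1, 0, 1] i) i else true) 15 0 = true := by decide +kernel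

theorem fix1 : fixesAll 31671 tb [0, 1, 0, 1, 0, 1] 15 = true :=
  fix1_0

theorem fix2_0 : allR (fun i => bif Nat.blt i 31671 then Nat.beq (walk tb [0, 2, 0, 2] i) i else true) 15 0 = true := by decide +kernel

theorem fix2 : fixesAll 31671 tb [0, 2, 0, 2] 15 = true :=
  fix2_0

theorem fix3_0 : allR (fun i => bif Nat.blt i 31671 then Nat.beq (walk tb [0, 3, 0, 3] i) i else true) 15 0 = true := by decide +kernel

theorem fix3 : fixesAll 31671 tb [0, 3, 0, 3] 15 = true :=
  fix3_0

theorem fix4_0 : allR (fun i => bif Nat.blt i 31671 then Nat.beq (walk tb [0, 4, 0, 4] i) i else true) 15 0 = true := by decide +kernel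

theorem fix4 : fixesAll 31671 tb [0, 4, 0, 4] 15 = true :=
  fix4_0

theorem fix5_0 : allR (fun i => bif Nat.blt i 31671 then Nat.beq (walk tb [0, 5, 0, 5] i) i else true) 15 0 = true := by decide +kernel

theorem fix5 : fixesAll 31671 tb [0, 5, 0, 5] 15 = true :=
  fix5_0

theorem fix6_0 : allR (fun i => bif Nat.blt i 31671 then Nat.beq (walk tb [0, 6, 0, 6] i) i else true) 15 0 = true := by decide +kernel

theorem fix6 : fixesAll 31671 tb [0, 6, 0, 6] 15 = true :=
  fix6_0

theorem fix7_0 : allR (fun i => bif Nat.blt i 31671 then Nat.beq (walk tb [0, 7, 0, 7] i) i else true) 15 0 = true := by decide +kernel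

theorem fix7 : fixesAll 31671 tb [0, 7, 0, 7] 15 = true :=
  fix7_0

theorem fix8_0 : allR (fun i => bif Nat.blt i 31671 then Nat.beq (walk tb [0, 8, 0, 8] i) i else true) 15 0 = true := by decide +kernel

theorem fix8 : fixesAll 31671 tb [0, 8, 0, 8] 15 = true :=
  fix8_0

theorem fix9_0 : allR (fun i => bif Nat.blt i 31671 then Nat.beq (walk tb [0, 9, 0, 9] i) i else true) 15 0 = true := by decide +kernel

theorem fix9 : fixesAll 31671 tb [0, 9, 0, 9] 15 = true :=
  fix9_0

theorem fix10_0 : allR (fun i => bif Nat.blt i 31671 then Nat.beq (walk tb [1, 1] i) i else true) 15 0 = true := by decide +kernel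

theorem fix10 : fixesAll 31671 tb [1, 1] 15 = true :=
  fix10_0

theorem fix11_0 : allR (fun i => bif Nat.blt i 31671 then Nat.beq (walk tb [1, 2, 1, 2, 1, 2] i) i else true) 15 0 = true := by decide +kernel

end CfsgLib.CosetEnum.Fi23H
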