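import Cfsg.Agent.CosetEnum.Fi23H.Fix0

set_option autoImplicit false
set_option maxRecDepth 100000
set_option Elab.async false

/-! Checks of the coset table on 31671 cosets (generated certificate). -/

namespace CfsgLib.CosetEnum.Fi23H

theorem fix11 : fixesAll 31671 tb [1, 2, 1, 2, 1, 2] 15 = true :=
  fix11_0

theorem fix12_0 : allR (fun i => bif Nat.blt i 31671 then Nat.beq (walk tb [1, 3, 1, 3] i) i else true) 15 0 = true := by decide +kernel

theorem fix12 : fixesAll 31671 tb [1, 3, 1, 3] 15 = true :=
  fix12_0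

theorem fix13_0 : allR (fun i => bif Nat.blt i 31671 then Nat.beq (walk tb [1, 4, 1, 4] i) i else true) 15 0 = true := by decide +kernel

theorem fix13 : fixesAll 31671 tb [1, 4, 1, 4] 15 = true :=
  fix13_0

theorem fix14_0 : allR (fun i => bif Nat.blt i 31671 then Nat.beq (walk tb [1, 5, 1, 5] i) i else true) 15 0 = true := by decide +kernel

theorem fix14 : fixesAll 31671 tb [1, 5, 1, 5] 15 = true :=
  fix14_0

theorem fix15_0 : allR (fun i => bif Nat.blt i 31671 then Nat.beq (walk tb [1, 6, 1, 6] i) i else true) 15 0 = true := by decide +kernel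

theorem fix15 : fixesAll 31671 tb [1, 6, 1, 6] 15 = true :=
  fix15_0

theorem fix16_0 : allR (fun i => bif Nat.blt i 31671 then Nat.beq (walk tb [1, 7, 1, 7] i) i else true) 15 0 = true := by decide +kernel

theorem fix16 : fixesAll 31671 tb [1, 7, 1, 7] 15 = true :=
  fix16_0

theorem fix17_0 : allR (fun i => bif Nat.blt i 31671 then Nat.beq (walk tb [1, 8, 1, 8] i) i else true) 15 0 = true := by decide +kernel

theorem fix17 : fixesAll 31671 tb [1, 8, 1, 8] 15 = true :=
  fix17_0

theorem fix18_0 : allR (fun i => bif Nat.blt i 31671 then Nat.beq (walk tb [1, 9, 1, 9] i) i else true) 15 0 = true := by decide +kernel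

theorem fix18 : fixesAll 31671 tb [1, 9, 1, 9] 15 = true :=
  fix18_0

theorem fix19_0 : allR (fun i => bif Nat.blt i 31671 then Nat.beq (walk tb [2, 2] i) i else true) 15 0 = true := by decide +kernel

theorem fix19 : fixesAll 31671 tb [2, 2] 15 = true :=
  fix19_0

theorem fix20_0 : allR (fun i => bif Nat.blt i 31671 then Nat.beq (walk tb [2, 3, 2, 3, 2, 3] i) i else true) 15 0 = true := by decide +kernel

theorem fix20 : fixesAll 31671 tb [2, 3, 2, 3, 2, 3] 15 = true :=
  fix20_0

theorem fix21_0 : allR (fun i => bif Nat.blt i 31671 then Nat.beq (walk tb [2, 4, 2, 4] i) i else true) 15 0 = true := by decide +kernel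

theorem fix21 : fixesAll 31671 tb [2, 4, 2, 4] 15 = true :=
  fix21_0

theorem fix22_0 : allR (fun i => bif Nat.blt i 31671 then Nat.beq (walk tb [2, 5, 2, 5] i) i else true) 15 0 = true := by decide +kernel

theorem fix22 : fixesAll 31671 tb [2, 5, 2, 5] 15 = true :=
  fix22_0

theorem fix23_0 : allR (fun i => bif Nat.blt i 31671 then Nat.beq (walk tb [2, 6, 2, 6] i) i else true) 15 0 = true := by decide +kernel

end CfsgLib.CosetEnum.Fi23H
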