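import Cfsg.Agent.CosetEnum.Fi23H.Fix1

set_option autoImplicit false
set_option maxRecDepth 100000
set_option Elab.async false

/-! Checks of the coset table on 31671 cosets (generated certificate). -/

namespace CfsgLib.CosetEnum.Fi23H

theorem fix23 : fixesAll 31671 tb [2, 6, 2, 6] 15 = true :=
  fix23_0

theorem fix24_0 : allR (fun i => bif Nat.blt i 31671 then Nat.beq (walk tb [2, 7, 2, 7] i) i else true) 15 0 = true := by decide +kernel

theorem fix24 : fixesAll 31671 tb [2, 7, 2, 7] 15 = true :=
  fix24_0

theorem fix25_0 : allR (fun i => bif Nat.blt i 31671 then Nat.beq (walk tb [2, 8, 2, 8] i) i else true) 15 0 = true := by decide +kernel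

theorem fix25 : fixesAll 31671 tb [2, 8, 2, 8] 15 = true :=
  fix25_0

theorem fix26_0 : allR (fun i => bif Nat.blt i 31671 then Nat.beq (walk tb [2, 9, 2, 9] i) i else true) 15 0 = true := by decide +kernel

theorem fix26 : fixesAll 31671 tb [2, 9, 2, 9] 15 = true :=
  fix26_0

theorem fix27_0 : allR (fun i => bif Nat.blt i 31671 then Nat.beq (walk tb [3, 3] i) i else true) 15 0 = true := by decide +kernel

theorem fix27 : fixesAll 31671 tb [3, 3] 15 = true :=
  fix27_0

theorem fix28_0 : allR (fun i => bif Nat.blt i 31671 then Nat.beq (walk tb [3, 4, 3, 4, 3, 4] i) i else true) 15 0 = true := by decide +kernel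

theorem fix28 : fixesAll 31671 tb [3, 4, 3, 4, 3, 4] 15 = true :=
  fix28_0

theorem fix29_0 : allR (fun i => bif Nat.blt i 31671 then Nat.beq (walk tb [3, 5, 3, 5] i) i else true) 15 0 = true := by decide +kernel

theorem fix29 : fixesAll 31671 tb [3, 5, 3, 5] 15 = true :=
  fix29_0

theorem fix30_0 : allR (fun i => bif Nat.blt i 31671 then Nat.beq (walk tb [3, 6, 3, 6] i) i else true) 15 0 = true := by decide +kernel

theorem fix30 : fixesAll 31671 tb [3, 6, 3, 6] 15 = true :=
  fix30_0

theorem fix31_0 : allR (fun i => bif Nat.blt i 31671 then Nat.beq (walk tb [3, 7, 3, 7] i) i else true) 15 0 = true := by decide +kernel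

theorem fix31 : fixesAll 31671 tb [3, 7, 3, 7] 15 = true :=
  fix31_0

theorem fix32_0 : allR (fun i => bif Nat.blt i 31671 then Nat.beq (walk tb [3, 8, 3, 8, 3, 8] i) i else true) 15 0 = true := by decide +kernel

theorem fix32 : fixesAll 31671 tb [3, 8, 3, 8, 3, 8] 15 = true :=
  fix32_0

theorem fix33_0 : allR (fun i => bif Nat.blt i 31671 then Nat.beq (walk tb [3, 9, 3, 9] i) i else true) 15 0 = true := by decide +kernel

theorem fix33 : fixesAll 31671 tb [3, 9, 3, 9] 15 = true :=
  fix33_0

theorem fix34_0 : allR (fun i => bif Nat.blt i 31671 then Nat.beq (walk tb [4, 4] i) i else true) 15 0 = true := by decide +kernel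

theorem fix34 : fixesAll 31671 tb [4, 4] 15 = true :=
  fix34_0

theorem fix35_0 : allR (fun i => bif Nat.blt i 31671 then Nat.beq (walk tb [4, 5, 4, 5, 4, 5] i) i else true) 15 0 = true := by decide +kernel

end CfsgLib.CosetEnum.Fi23H
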