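import Cfsg.Agent.CosetEnum.Fi23H.Fix2

set_option autoImplicit false
set_option maxRecDepth 100000
set_option Elab.async false

/-! Checks of the coset table on 31671 cosets (generated certificate). -/

namespace CfsgLib.CosetEnum.Fi23H

theorem fix35 : fixesAll 31671 tb [4, 5, 4, 5, 4, 5] 15 = true :=
  fix35_0

theorem fix36_0 : allR (fun i => bif Nat.blt i 31671 then Nat.beq (walk tb [4, 6, 4, 6] i) i else true) 15 0 = true := by decide +kernel

theorem fix36 : fixesAll 31671 tb [4, 6, 4, 6] 15 = true :=
  fix36_0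

theorem fix37_0 : allR (fun i => bif Nat.blt i 31671 then Nat.beq (walk tb [4, 7, 4, 7] i) i else true) 15 0 = true := by decide +kernel

theorem fix37 : fixesAll 31671 tb [4, 7, 4, 7] 15 = true :=
  fix37_0

theorem fix38_0 : allR (fun i => bif Nat.blt i 31671 then Nat.beq (walk tb [4, 8, 4, 8] i) i else true) 15 0 = true := by decide +kernel

theorem fix38 : fixesAll 31671 tb [4, 8, 4, 8] 15 = true :=
  fix38_0

theorem fix39_0 : allR (fun i => bif Nat.blt i 31671 then Nat.beq (walk tb [4, 9, 4, 9] i) i else true) 15 0 = true := by decide +kernel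

theorem fix39 : fixesAll 31671 tb [4, 9, 4, 9] 15 = true :=
  fix39_0

theorem fix40_0 : allR (fun i => bif Nat.blt i 31671 then Nat.beq (walk tb [5, 5] i) i else true) 15 0 = true := by decide +kernel

theorem fix40 : fixesAll 31671 tb [5, 5] 15 = true :=
  fix40_0

theorem fix41_0 : allR (fun i => bif Nat.blt i 31671 then Nat.beq (walk tb [5, 6, 5, 6, 5, 6] i) i else true) 15 0 = true := by decide +kernel

theorem fix41 : fixesAll 31671 tb [5, 6, 5, 6, 5, 6] 15 = true :=
  fix41_0

theorem fix42_0 : allR (fun i => bif Nat.blt i 31671 then Nat.beq (walk tb [5, 7, 5, 7] i) i else true) 15 0 = true := by decide +kernel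

theorem fix42 : fixesAll 31671 tb [5, 7, 5, 7] 15 = true :=
  fix42_0

theorem fix43_0 : allR (fun i => bif Nat.blt i 31671 then Nat.beq (walk tb [5, 8, 5, 8] i) i else true) 15 0 = true := by decide +kernel

theorem fix43 : fixesAll 31671 tb [5, 8, 5, 8] 15 = true :=
  fix43_0

theorem fix44_0 : allR (fun i => bif Nat.blt i 31671 then Nat.beq (walk tb [5, 9, 5, 9] i) i else true) 15 0 = true := by decide +kernel

theorem fix44 : fixesAll 31671 tb [5, 9, 5, 9] 15 = true :=
  fix44_0

theorem fix45_0 : allR (fun i => bif Nat.blt i 31671 then Nat.beq (walk tb [6, 6] i) i else true) 15 0 = true := by decide +kernel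

theorem fix45 : fixesAll 31671 tb [6, 6] 15 = true :=
  fix45_0

theorem fix46_0 : allR (fun i => bif Nat.blt i 31671 then Nat.beq (walk tb [6, 7, 6, 7, 6, 7] i) i else true) 15 0 = true := by decide +kernel

theorem fix46 : fixesAll 31671 tb [6, 7, 6, 7, 6, 7] 15 = true :=
  fix46_0

theorem fix47_0 : allR (fun i => bif Nat.blt i 31671 then Nat.beq (walk tb [6, 8, 6, 8] i) i else true) 15 0 = true := by decide +kernel

end CfsgLib.CosetEnum.Fi23H
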