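import Cfsg.Agent.CosetEnum.Fi23H.Fix3

set_option autoImplicit false
set_option maxRecDepth 100000
set_option Elab.async false

/-! Checks of the coset table on 31671 cosets (generated certificate). -/

namespace CfsgLib.CosetEnum.Fi23H

theorem fix47 : fixesAll 31671 tb [6, 8, 6, 8] 15 = true :=
  fix47_0

theorem fix48_0 : allR (fun i => bif Nat.blt i 31671 then Nat.beq (walk tb [6, 9, 6, 9] i) i else true) 15 0 = true := by decide +kernel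

theorem fix48 : fixesAll 31671 tb [6, 9, 6, 9] 15 = true :=
  fix48_0

theorem fix49_0 : allR (fun i => bif Nat.blt i 31671 then Nat.beq (walk tb [7, 7] i) i else true) 15 0 = true := by decide +kernel

theorem fix49 : fixesAll 31671 tb [7, 7] 15 = true :=
  fix49_0

theorem fix50_0 : allR (fun i => bif Nat.blt i 31671 then Nat.beq (walk tb [7, 8, 7, 8] i) i else true) 15 0 = true := by decide +kernel

theorem fix50 : fixesAll 31671 tb [7, 8, 7, 8] 15 = true :=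
  fix50_0

theorem fix51_0 : allR (fun i => bif Nat.blt i 31671 then Nat.beq (walk tb [7, 9, 7, 9] i) i else true) 15 0 = true := by decide +kernel

theorem fix51 : fixesAll 31671 tb [7, 9, 7, 9] 15 = true :=
  fix51_0

theorem fix52_0 : allR (fun i => bif Nat.blt i 31671 then Nat.beq (walk tb [8, 8] i) i else true) 15 0 = true := by decide +kernel

theorem fix52 : fixesAll 31671 tb [8, 8] 15 = true :=
  fix52_0

theorem fix53_0 : allR (fun i => bif Nat.blt i 31671 then Nat.beq (walk tb [8, 9, 8, 9, 8, 9] i) i else true) 15 0 = true := by decide +kernel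

theorem fix53 : fixesAll 31671 tb [8, 9, 8, 9, 8, 9] 15 = true :=
  fix53_0

theorem fix54_0 : allR (fun i => bif Nat.blt i 31671 then Nat.beq (walk tb [9, 9] i) i else true) 15 0 = true := by decide +kernel

theorem fix54 : fixesAll 31671 tb [9, 9] 15 = true :=
  fix54_0

theorem fix55_0 : allR (fun i => bif Nat.blt i 31671 then Nat.beq (walk tb [3, 2, 1, 3, 4, 5, 3, 8, 9, 3, 2, 1, 3, 4, 5, 3, 8, 9, 3, 2, 1, 3, 4, 5, 3, 8, 9, 3, 2, 1, 3, 4, 5, 3, 8, 9, 3, 2, 1, 3, 4, 5, 3, 8, 9, 3, 2, 1, 3, 4, 5, 3, 8, 9, 3, 2, 1, 3, 4, 5, 3, 8, 9, 3, 2, 1, 3, 4, 5, 3, 8, 9, 3, 2, 1, 3, 4, 5, 3, 8, 9, 3, 2, 1, 3, 4, 5, 3, 8, 9] i) i else true) 11 0 = true := by decide +kernel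

theorem fix55_1 : allR (fun i => bif Nat.blt i 31671 then Nat.beq (walk tb [3, 2, 1, 3, 4, 5, 3, 8, 9, 3, 2, 1, 3, 4, 5, 3, 8, 9, 3, 2, 1, 3, 4, 5, 3, 8, 9, 3, 2, 1, 3, 4, 5, 3, 8, 9, 3, 2, 1, 3, 4, 5, 3, 8, 9, 3, 2, 1, 3, 4, 5, 3, 8, 9, 3, 2, 1, 3, 4, 5, 3, 8, 9, 3, 2, 1, 3, 4, 5, 3, 8, 9, 3, 2, 1, 3, 4, 5, 3, 8, 9, 3, 2, 1, 3, 4, 5, 3, 8, 9] i) i else true) 11 2048 = true := by decide +kernel

theorem fix55_2 : allR (fun i => bif Nat.blt i 31671 then Nat.beq (walk tb [3, 2, 1, 3, 4, 5, 3, 8, 9, 3, 2, 1, 3, 4, 5, 3, 8, 9, 3, 2, 1, 3, 4, 5, 3, 8, 9, 3, 2, 1, 3, 4, 5, 3, 8, 9, 3, 2, 1, 3, 4, 5, 3, 8, 9, 3, 2, 1, 3, 4, 5, 3, 8, 9, 3, 2, 1, 3, 4, 5, 3, 8, 9, 3, 2, 1, 3, 4, 5, 3, 8, 9, 3, 2, 1, 3, 4, 5, 3, 8, 9, 3, 2, 1, 3, 4, 5, 3, 8, 9] i) i else true) 11 4096 = true := by decide +kernel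

theorem fix55_3 : allR (fun i => bif Nat.blt i 31671 then Nat.beq (walk tb [3, 2, 1, 3, 4, 5, 3, 8, 9, 3, 2, 1, 3, 4, 5, 3, 8, 9, 3, 2, 1, 3, 4, 5, 3, 8, 9, 3, 2, 1, 3, 4, 5, 3, 8, 9, 3, 2, 1, 3, 4, 5, 3, 8, 9, 3, 2, 1, 3, 4, 5, 3, 8, 9, 3, 2, 1, 3, 4, 5, 3, 8, 9, 3, 2, 1, 3, 4, 5, 3, 8, 9, 3, 2, 1, 3, 4, 5, 3, 8, 9, 3, 2, 1, 3, 4, 5, 3, 8, 9] i) i else true) 11 6144 = true := by decide +kernel

theorem fix55_4 : allR (fun i => bif Nat.blt i 31671 then Nat.beq (walk tb [3, 2, 1, 3, 4, 5, 3, 8, 9, 3, 2, 1, 3, 4, 5, 3, 8, 9, 3, 2, 1, 3, 4, 5, 3, 8, 9, 3, 2, 1, 3, 4, 5, 3, 8, 9, 3, 2, 1, 3, 4, 5, 3, 8, 9, 3, 2, 1, 3, 4, 5, 3, 8, 9, 3, 2, 1, 3, 4, 5, 3, 8, 9, 3, 2, 1, 3, 4, 5, 3, 8, 9, 3, 2, 1, 3, 4, 5, 3, 8, 9, 3, 2, 1, 3, 4, 5, 3, 8, 9] i) i else true) 11 8192 = true := by decide +kernel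

end CfsgLib.CosetEnum.Fi23H
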