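import Cfsg.Agent.CosetEnum.Fi23H.Fix5

set_option autoImplicit false
set_option maxRecDepth 100000
set_option Elab.async false

/-! Checks of the coset table on 31671 cosets (generated certificate). -/

namespace CfsgLib.CosetEnum.Fi23H

theorem fix55_14 : allR (fun i => bif Nat.blt i 31671 then Nat.beq (walk tb [3, 2, 1, 3, 4, 5, 3, 8, 9, 3, 2, 1, 3, 4, 5, 3, 8, 9, 3, 2, 1, 3, 4, 5, 3, 8, 9, 3, 2, 1, 3, 4, 5, 3, 8, 9, 3, 2, 1, 3, 4, 5, 3, 8, 9, 3, 2, 1, 3, 4, 5, 3, 8, 9, 3, 2, 1, 3, 4, 5, 3, 8, 9, 3, 2, 1, 3, 4, 5, 3, 8, 9, 3, 2, 1, 3, 4, 5, 3, 8, 9, 3, 2, 1, 3, 4, 5, 3, 8, 9] i) i else true) 11 28672 = true := by decide +kernel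

theorem fix55_15 : allR (fun i => bif Nat.blt i 31671 then Nat.beq (walk tb [3, 2, 1, 3, 4, 5, 3, 8, 9, 3, 2, 1, 3, 4, 5, 3, 8, 9, 3, 2, 1, 3, 4, 5, 3, 8, 9, 3, 2, 1, 3, 4, 5, 3, 8, 9, 3, 2, 1, 3, 4, 5, 3, 8, 9, 3, 2, 1, 3, 4, 5, 3, 8, 9, 3, 2, 1, 3, 4, 5, 3, 8, 9, 3, 2, 1, 3, 4, 5, 3, 8, 9, 3, 2, 1, 3, 4, 5, 3, 8, 9, 3, 2, 1, 3, 4, 5, 3, 8, 9] i) i else true) 11 30720 = true := by decide +kernel

theorem fix55 : fixesAll 31671 tb [3, 2, 1, 3, 4, 5, 3, 8, 9, 3, 2, 1, 3, 4, 5, 3, 8, 9, 3, 2, 1, 3, 4, 5, 3, 8, 9, 3, 2, 1, 3, 4, 5, 3, 8, 9, 3, 2, 1, 3, 4, 5, 3, 8, 9, 3, 2, 1, 3, 4, 5, 3, 8, 9, 3, 2, 1, 3, 4, 5, 3, 8, 9, 3, 2, 1, 3, 4, 5, 3, 8, 9, 3, 2, 1, 3, 4, 5, 3, 8, 9, 3, 2, 1, 3, 4, 5, 3, 8, 9] 15 = true :=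
  (allR_join (d := 14) (lo := 0) (hi := 16384) (allR_join (d := 13) (lo := 0) (hi := 8192) (allR_join (d := 12) (lo := 0) (hi := 4096) (allR_join (d := 11) (lo := 0) (hi := 2048) fix55_0 (by decide +kernel) fix55_1) (by decide +kernel) (allR_join (d := 11) (lo := 4096) (hi := 6144) fix55_2 (by decide +kernel) fix55_3)) (by decide +kernel) (allR_join (d := 12) (lo := 8192) (hi := 12288) (allR_join (d := 11) (lo := 8192) (hi := 10240) fix55_4 (by decide +kernel) fix55_5) (by decide +kernel) (allR_join (d := 11) (lo := 12288) (hi := 14336) fix55_6 (by decide +kernel) fix55_7))) (by decide +kernel) (allR_join (d := 13) (lo := 16384) (hi := 24576) (allR_join (d := 12) (lo := 16384) (hi := 20480) (allR_join (d := 11) (lo := 16384) (hi := 18432) fix55_8 (by decide +kernel) fix55_9) (by decide +kernel) (allR_join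 (d := 11) (lo := 20480) (hi := 22528) fix55_10 (by decide +kernel) fix55_11)) (by decide +kernel) (allR_join (d := 12) (lo := 24576) (hi := 28672) (allR_join (d := 11) (lo := 24576) (hi := 26624) fix55_12 (by decide +kernel) fix55_13) (by decide +kernel) (allR_join (d := 11) (lo := 28672) (hi := 30720) fix55_14 (by decide +kernel) fix55_15))))

theorem fix56_0 : allR (fun i => bif Nat.blt i 31671 then Nat.beq (walk tb [0, 1, 2, 3, 4, 5, 8, 0, 1, 2, 3, 4, 5, 8, 0, 1, 2, 3, 4, 5, 8, 0, 1, 2, 3, 4, 5, 8, 0, 1, 2, 3, 4, 5, 8, 0, 1, 2, 3, 4, 5, 8, 0, 1, 2, 3, 4, 5, 8, 0, 1, 2, 3, 4, 5, 8, 0, 1, 2, 3, 4, 5, 8] i) i else true) 11 0 = true := by decide +kernel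

theorem fix56_1 : allR (fun i => bif Nat.blt i 31671 then Nat.beq (walk tb [0, 1, 2, 3, 4, 5, 8, 0, 1, 2, 3, 4, 5, 8, 0, 1, 2, 3, 4, 5, 8, 0, 1, 2, 3, 4, 5, 8, 0, 1, 2, 3, 4, 5, 8, 0, 1, 2, 3, 4, 5, 8, 0, 1, 2, 3, 4, 5, 8, 0, 1, 2, 3, 4, 5, 8, 0, 1, 2, 3, 4, 5, 8] i) i else true) 11 2048 = true := by decide +kernel

theorem fix56_2 : allR (fun i => bif Nat.blt i 31671 then Nat.beq (walk tb [0, 1, 2, 3, 4, 5, 8, 0, 1, 2, 3, 4, 5, 8, 0, 1, 2, 3, 4, 5, 8, 0, 1, 2, 3, 4, 5, 8, 0, 1, 2, 3, 4, 5, 8, 0, 1, 2, 3, 4, 5, 8, 0, 1, 2, 3, 4, 5, 8, 0, 1, 2, 3, 4, 5, 8, 0, 1, 2, 3, 4, 5, 8] i) i else true) 11 4096 = true := by decide +kernel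

theorem fix56_3 : allR (fun i => bif Nat.blt i 31671 then Nat.beq (walk tb [0, 1, 2, 3, 4, 5, 8, 0, 1, 2, 3, 4, 5, 8, 0, 1, 2, 3, 4, 5, 8, 0, 1, 2, 3, 4, 5, 8, 0, 1, 2, 3, 4, 5, 8, 0, 1, 2, 3, 4, 5, 8, 0, 1, 2, 3, 4, 5, 8, 0, 1, 2, 3, 4, 5, 8, 0, 1, 2, 3, 4, 5, 8] i) i else true) 11 6144 = true := by decide +kernel

theorem fix56_4 : allR (fun i => bif Nat.blt i 31671 then Nat.beq (walk tb [0, 1, 2, 3, 4, 5, 8, 0, 1, 2, 3, 4, 5, 8, 0, 1, 2, 3, 4, 5, 8, 0, 1, 2, 3, 4, 5, 8, 0, 1, 2, 3, 4, 5, 8, 0, 1, 2, 3, 4, 5, 8, 0, 1, 2, 3, 4, 5, 8, 0, 1, 2, 3, 4, 5, 8, 0, 1, 2, 3, 4, 5, 8] i) i else true) 11 8192 = true := by decide +kernel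

theorem fix56_5 : allR (fun i => bif Nat.blt i 31671 then Nat.beq (walk tb [0, 1, 2, 3, 4, 5, 8, 0, 1, 2, 3, 4, 5, 8, 0, 1, 2, 3, 4, 5, 8, 0, 1, 2, 3, 4, 5, 8, 0, 1, 2, 3, 4, 5, 8, 0, 1, 2, 3, 4, 5, 8, 0, 1, 2, 3, 4, 5, 8, 0, 1, 2, 3, 4, 5, 8, 0, 1, 2, 3, 4, 5, 8] i) i else true) 11 10240 = true := by decide +kernel

theorem fix56_6 : allR (fun i => bif Nat.blt i 31671 then Nat.beq (walk tb [0, 1, 2, 3, 4, 5, 8, 0, 1, 2, 3, 4, 5, 8, 0, 1, 2, 3, 4, 5, 8, 0, 1, 2, 3, 4, 5, 8, 0, 1, 2, 3, 4, 5, 8, 0, 1, 2, 3, 4, 5, 8, 0, 1, 2, 3, 4, 5, 8, 0, 1, 2, 3, 4, 5, 8, 0, 1, 2, 3, 4, 5, 8] i) i else true) 11 12288 = true := by decide +kernel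

theorem fix56_7 : allR (fun i => bif Nat.blt i 31671 then Nat.beq (walk tb [0, 1, 2, 3, 4, 5, 8, 0, 1, 2, 3, 4, 5, 8, 0, 1, 2, 3, 4, 5, 8, 0, 1, 2, 3, 4, 5, 8, 0, 1, 2, 3, 4, 5, 8, 0, 1, 2, 3, 4, 5, 8, 0, 1, 2, 3, 4, 5, 8, 0, 1, 2, 3, 4, 5, 8, 0, 1, 2, 3, 4, 5, 8] i) i else true) 11 14336 = true := by decide +kernel

theorem fix56_8 : allR (fun i => bif Nat.blt i 31671 then Nat.beq (walk tb [0, 1, 2, 3, 4, 5, 8, 0, 1, 2, 3, 4, 5, 8, 0, 1, 2, 3, 4, 5, 8, 0, 1, 2, 3, 4, 5, 8, 0, 1, 2, 3, 4, 5, 8, 0, 1, 2, 3, 4, 5, 8, 0, 1, 2, 3, 4, 5, 8, 0, 1, 2, 3, 4, 5, 8, 0, 1, 2, 3, 4, 5, 8] i) i else true) 11 16384 = true := by decide +kernel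

end CfsgLib.CosetEnum.Fi23H
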