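import Cfsg.Agent.CosetEnum.Fi23H.Fix6

set_option autoImplicit false
set_option maxRecDepth 100000
set_option Elab.async false

/-! Checks of the coset table on 31671 cosets (generated certificate). -/

namespace CfsgLib.CosetEnum.Fi23H

theorem fix56_9 : allR (fun i => bif Nat.blt i 31671 then Nat.beq (walk tb [0, 1, 2, 3, 4, 5, 8, 0, 1, 2, 3, 4, 5, 8, 0, 1, 2, 3, 4, 5, 8, 0, 1, 2, 3, 4, 5, 8, 0, 1, 2, 3, 4, 5, 8, 0, 1, 2, 3, 4, 5, 8, 0, 1, 2, 3, 4, 5, 8, 0, 1, 2, 3, 4, 5, 8, 0, 1, 2, 3, 4, 5, 8] i) i else true) 11 18432 = true := by decide +kernel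

theorem fix56_10 : allR (fun i => bif Nat.blt i 31671 then Nat.beq (walk tb [0, 1, 2, 3, 4, 5, 8, 0, 1, 2, 3, 4, 5, 8, 0, 1, 2, 3, 4, 5, 8, 0, 1, 2, 3, 4, 5, 8, 0, 1, 2, 3, 4, 5, 8, 0, 1, 2, 3, 4, 5, 8, 0, 1, 2, 3, 4, 5, 8, 0, 1, 2, 3, 4, 5, 8, 0, 1, 2, 3, 4, 5, 8] i) i else true) 11 20480 = true := by decide +kernel

theorem fix56_11 : allR (fun i => bif Nat.blt i 31671 then Nat.beq (walk tb [0, 1, 2, 3, 4, 5, 8, 0, 1, 2, 3, 4, 5, 8, 0, 1, 2, 3, 4, 5, 8, 0, 1, 2, 3, 4, 5, 8, 0, 1, 2, 3, 4, 5, 8, 0, 1, 2, 3, 4, 5, 8, 0, 1, 2, 3, 4, 5, 8, 0, 1, 2, 3, 4, 5, 8, 0, 1, 2, 3, 4, 5, 8] i) i else true) 11 22528 = true := by decide +kernel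

theorem fix56_12 : allR (fun i => bif Nat.blt i 31671 then Nat.beq (walk tb [0, 1, 2, 3, 4, 5, 8, 0, 1, 2, 3, 4, 5, 8, 0, 1, 2, 3, 4, 5, 8, 0, 1, 2, 3, 4, 5, 8, 0, 1, 2, 3, 4, 5, 8, 0, 1, 2, 3, 4, 5, 8, 0, 1, 2, 3, 4, 5, 8, 0, 1, 2, 3, 4, 5, 8, 0, 1, 2, 3, 4, 5, 8] i) i else true) 11 24576 = true := by decide +kernel

theorem fix56_13 : allR (fun i => bif Nat.blt i 31671 then Nat.beq (walk tb [0, 1, 2, 3, 4, 5, 8, 0, 1, 2, 3, 4, 5, 8, 0, 1, 2, 3, 4, 5, 8, 0, 1, 2, 3, 4, 5, 8, 0, 1, 2, 3, 4, 5, 8, 0, 1, 2, 3, 4, 5, 8, 0, 1, 2, 3, 4, 5, 8, 0, 1, 2, 3, 4, 5, 8, 0, 1, 2, 3, 4, 5, 8] i) i else true) 11 26624 = true := by decide +kernel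

theorem fix56_14 : allR (fun i => bif Nat.blt i 31671 then Nat.beq (walk tb [0, 1, 2, 3, 4, 5, 8, 0, 1, 2, 3, 4, 5, 8, 0, 1, 2, 3, 4, 5, 8, 0, 1, 2, 3, 4, 5, 8, 0, 1, 2, 3, 4, 5, 8, 0, 1, 2, 3, 4, 5, 8, 0, 1, 2, 3, 4, 5, 8, 0, 1, 2, 3, 4, 5, 8, 0, 1, 2, 3, 4, 5, 8] i) i else true) 11 28672 = true := by decide +kernel

theorem fix56_15 : allR (fun i => bif Nat.blt i 31671 then Nat.beq (walk tb [0, 1, 2, 3, 4, 5, 8, 0, 1, 2, 3, 4, 5, 8, 0, 1, 2, 3, 4, 5, 8, 0, 1, 2, 3, 4, 5, 8, 0, 1, 2, 3, 4, 5, 8, 0, 1, 2, 3, 4, 5, 8, 0, 1, 2, 3, 4, 5, 8, 0, 1, 2, 3, 4, 5, 8, 0, 1, 2, 3, 4, 5, 8] i) i else true) 11 30720 = true := by decide +kernel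

theorem fix56 : fixesAll 31671 tb [0, 1, 2, 3, 4, 5, 8, 0, 1, 2, 3, 4, 5, 8, 0, 1, 2, 3, 4, 5, 8, 0, 1, 2, 3, 4, 5, 8, 0, 1, 2, 3, 4, 5, 8, 0, 1, 2, 3, 4, 5, 8, 0, 1, 2, 3, 4, 5, 8, 0, 1, 2, 3, 4, 5, 8, 0, 1, 2, 3, 4, 5, 8] 15 = true :=
  (allR_join (d := 14) (lo := 0) (hi := 16384) (allR_join (d := 13) (lo := 0) (hi := 8192) (allR_join (d := 12) (lo := 0) (hi := 4096) (allR_join (d := 11) (lo := 0) (hi := 2048) fix56_0 (by decide +kernel) fix56_1) (by decide +kernel) (allR_join (d := 11) (lo := 4096) (hi := 6144) fix56_2 (by decide +kernel) fix56_3)) (by decide +kernel) (allR_join (d := 12) (lo := 8192) (hi := 12288) (allR_join (d := 11) (lo := 8192) (hi := 10240) fix56_4 (by decide +kernel) fix56_5) (by decide +kernel) (allR_join (d := 11) (lo := 12288) (hi := 14336) fix56_6 (by decide +kernel) fix56_7))) (by decide +kernel) (allR_join (d := 13) (lo := 16384)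 (hi := 24576) (allR_join (d := 12) (lo := 16384) (hi := 20480) (allR_join (d := 11) (lo := 16384) (hi := 18432) fix56_8 (by decide +kernel) fix56_9) (by decide +kernel) (allR_join (d := 11) (lo := 20480) (hi := 22528) fix56_10 (by decide +kernel) fix56_11)) (by decide +kernel) (allR_join (d := 12) (lo := 24576) (hi := 28672) (allR_join (d := 11) (lo := 24576) (hi := 26624) fix56_12 (by decide +kernel) fix56_13) (by decide +kernel) (allR_join (d := 11) (lo := 28672) (hi := 30720) fix56_14 (by decide +kernel) fix56_15))))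

theorem valid_0 : allR (validEntry 31671 10 tb id) 12 0 = true := by decide +kernel

theorem valid_1 : allR (validEntry 31671 10 tb id) 12 4096 = true := by decide +kernel

theorem valid_2 : allR (validEntry 31671 10 tb id) 12 8192 = true := by decide +kernel

theorem valid_3 : allR (validEntry 31671 10 tb id) 12 12288 = true := by decide +kernel

theorem valid_4 : allR (validEntry 31671 10 tb id) 12 16384 = true := by decide +kernel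

end CfsgLib.CosetEnum.Fi23H
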