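import Cfsg.Agent.CosetEnum.Fi23H.Fix7

set_option autoImplicit false
set_option maxRecDepth 100000
set_option Elab.async false

/-! Checks of the coset table on 31671 cosets (generated certificate). -/

namespace CfsgLib.CosetEnum.Fi23H

theorem valid_5 : allR (validEntry 31671 10 tb id) 12 20480 = true := by decide +kernel

theorem valid_6 : allR (validEntry 31671 10 tb id) 12 24576 = true := by decide +kernel

theorem valid_7 : allR (validEntry 31671 10 tb id) 12 28672 = true := by decide +kernel

theorem valid : allR (validEntry 31671 10 tb id) 15 0 = true :=
  (allR_join (d := 14) (lo := 0) (hi := 16384) (allR_join (d := 13) (lo := 0) (hi := 8192) (allR_join (d := 12) (lo := 0) (hi := 4096) valid_0 (by decide +kernel) valid_1) (by decide +kernel) (allR_join (d := 12) (lo := 8192) (hi := 12288) valid_2 (by decide +kernel) valid_3)) (by decide +kernel) (allR_join (d := 13) (lo := 16384) (hi := 24576) (allR_join (d := 12) (lo := 16384) (hi := 20480) valid_4 (by decide +kernel) valid_5) (by decide +kernel) (allR_join (d := 12) (lo := 24576) (hi := 28672) valid_6 (by decide +kernel) valid_7)))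

theorem treeValid_0 : allR (treeOK 31671 10 tb parN parX) 15 0 = true := by decide +kernel

theorem treeValid : allR (treeOK 31671 10 tb parN parX) 15 0 = true :=
  treeValid_0

end CfsgLib.CosetEnum.Fi23H
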