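import Cfsg.Agent.CosetEnum.Fi23H.OrbitsSmallHigh

set_option autoImplicit false
set_option maxRecDepth 100000
set_option exponentiation.threshold 200000

/-! The subgroup and its orbits on 31671 cosets in `Cfsg.Spor.Fi23`. -/

namespace CfsgLib.CosetEnum.Fi23H

open Cfsg.Spor

/-- The subgroup generators as free-group elements. -/
def subs : List (FreeGroup Fi23.Gen) := [Fi23.a, Fi23.b, Fi23.c, Fi23.d, Fi23.e, Fi23.f, Fi23.g, Fi23.h, Fi23.i]

theorem sW_eq (K : Type) [Group K] (f : Fi23.Gen → K) (hf : ∀ a, f a * f a = 1) :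
    subs.map (FreeGroup.lift f) = sW.map (prodw (f ∘ CfsgLib.CosetEnum.Fi23.en)) := by
  have _ := hf
  simp [subs, sW, prodw, CfsgLib.CosetEnum.Fi23.en, pow_succ, mul_assoc]

theorem H_eq : CfsgLib.CosetEnum.Fi23.setup.sub {w | w ∈ subs} = enum.H :=
  CfsgLib.CosetEnum.Fi23.setup.sub_eq subs sW sW_eq

theorem orbit0 (φ : CfsgLib.CosetEnum.Fi23.setup.Grp →* Equiv.Perm (Fin enum.n))
    (e : CfsgLib.CosetEnum.Fi23.setup.Grp ⧸ enum.H ≃ Fin enum.n)
    (hφ : ∀ (w : List ℕ), (∀ x ∈ w, x < CfsgLib.CosetEnum.Fi23.setup.k) → ∀ i : Fin enum.n,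
      ((φ (prodw CfsgLib.CosetEnum.Fi23.setup.g w))⁻¹ i).val = walk enum.tb w i)
    (he : ∀ (y : CfsgLib.CosetEnum.Fi23.setup.Grp) (q : CfsgLib.CosetEnum.Fi23.setup.Grp ⧸ enum.H),
      e (y • q) = φ y (e q)) :
    (MulAction.orbit enum.H (e.symm ⟨1, by decide +kernel⟩)).ncard = 28160 ∧
      ∀ j : Fin enum.n, bit R0 j.val = false →
        MulAction.orbit enum.H (e.symm ⟨1, by decide +kernel⟩) ≠ MulAction.orbit enum.H (e.symm j) :=
  enum.orbit_card φ e hφ he (by decide +kernel) (d := 15) (dR := 15) (steps := O0) (by decide +kernel) _ R0 28160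
    reach0 closed0 count0 (by decide +kernel)

theorem orbit1 (φ : CfsgLib.CosetEnum.Fi23.setup.Grp →* Equiv.Perm (Fin enum.n))
    (e : CfsgLib.CosetEnum.Fi23.setup.Grp ⧸ enum.H ≃ Fin enum.n)
    (hφ : ∀ (w : List ℕ), (∀ x ∈ w, x < CfsgLib.CosetEnum.Fi23.setup.k) → ∀ i : Fin enum.n,
      ((φ (prodw CfsgLib.CosetEnum.Fi23.setup.g w))⁻¹ i).val = walk enum.tb w i)
    (he : ∀ (y : CfsgLib.CosetEnum.Fi23.setup.Grp) (q : CfsgLib.CosetEnum.Fi23.setup.Grp ⧸ enum.H),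
      e (y • q) = φ y (e q)) :
    (MulAction.orbit enum.H (e.symm ⟨52, by decide +kernel⟩)).ncard = 3510 ∧
      ∀ j : Fin enum.n, bit R1 j.val = false →
        MulAction.orbit enum.H (e.symm ⟨52, by decide +kernel⟩) ≠ MulAction.orbit enum.H (e.symm j) :=
  enum.orbit_card φ e hφ he (by decide +kernel) (d := 15) (dR := 12) (steps := O1) (by decide +kernel) _ R1 3510
    reach1 closed1 count1 (by decide +kernel)

end CfsgLib.CosetEnum.Fi23H
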