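import Cfsg.Agent.CosetEnum.Fi23H.OrbitsLow

set_option autoImplicit false
set_option maxRecDepth 100000
set_option exponentiation.threshold 200000
set_option Elab.async false

/-! Parts of the orbit certificate on 31671 cosets. -/

namespace CfsgLib.CosetEnum.Fi23H

theorem closed0_1 : allR (closedEntry 31671 9 tb (fun s => sW.getD s []) R0) 14 16384 = true := by decide +kernel

theorem closed0 : allR (closedEntry 31671 9 tb (fun s => sW.getD s []) R0) 15 0 = true :=
  allR_join (d := 14) (lo := 0) (hi := 16384) closed0_0 (by decide +kernel) closed0_1

theorem count0 : cntR (fun j => bit R0 j) 15 0 = 28160 := by decide +kernel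

end CfsgLib.CosetEnum.Fi23H
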