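import Cfsg.Agent.CosetEnum.Fi23H.OrbitsReach

set_option autoImplicit false
set_option maxRecDepth 100000
set_option exponentiation.threshold 200000
set_option Elab.async false

/-! Parts of the orbit certificate on 31671 cosets. -/

namespace CfsgLib.CosetEnum.Fi23H

theorem closed0_0 : allR (closedEntry 31671 9 tb (fun s => sW.getD s []) R0) 14 0 = true := by decide +kernel

end CfsgLib.CosetEnum.Fi23H
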